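import Groth.Agent.CMChart.OverField
import Groth.Agent.SpQS.TrdegQF

/-!
# The fibre dimension through the local ring of the fibre and the residue extension
-/

universe u

open CategoryTheory CategoryTheory.Limits AlgebraicGeometry

set_option backward.isDefEq.respectTransparency false

namespace Groth.Agent.SpRelDim

theorem quasiFiniteAt_of_isPreimmersion {X Y : Scheme.{u}} (f : X ⟶ Y) [IsPreimmersion f] (x : X) :
    f.QuasiFiniteAt x :=
  RingHom.QuasiFinite.of_finite (RingHom.Finite.of_surjective _ (f.stalkMap_surjective x))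

/-- the dimension of the fibre at a point is the dimension of its local ring plus the transcendence degree -/
theorem fibreDimAt_eq_add_resTrdeg {U V : Scheme.{u}} (h : U ⟶ V) [LocallyOfFiniteType h] (x : U) :
    ∃ b δ : ℕ, ringKrullDim ((h.fiber (h x)).presheaf.stalk (h.asFiber x)) = (b : WithBot ℕ∞) ∧
      Dual3.resTrdeg h x = (δ : Cardinal.{u}) ∧ FlatMor.fibreDimAt h x = ((b + δ : ℕ) : WithBot ℕ∞) := by
  have : LocallyOfFiniteType (h.fiberToSpecResidueField (h x)) := MorphismProperty.pullback_snd _ _ ‹_›
  have : IsPreimmersion (h.fiberι (h x)) := inferInstance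
  obtain ⟨b, δ, hb, hD, hδ, -⟩ := CMChart.localDim_field_eq (k := V.residueField (h x))
    (h.fiberToSpecResidueField (h x)) (h.asFiber x)
  refine ⟨b, δ, hb, ?_, hD⟩
  have h1 := SpQS.resTrdeg_precomp (h.fiberι (h x)) h (w := h.asFiber x) (quasiFiniteAt_of_isPreimmersion _ _)
  have h2 := SpQS.resTrdeg_postcomp (h.fiberToSpecResidueField (h x)) (V.fromSpecResidueField (h x))
    (w := h.asFiber x) (quasiFiniteAt_of_isPreimmersion _ _)
  rw [show h.fiberι (h x) ≫ h = h.fiberToSpecResidueField (h x) ≫ V.fromSpecResidueField (h x) from pullback.condition,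
    h2, h.fiberι_asFiber x] at h1
  rw [← h1]
  exact hδ

end Groth.Agent.SpRelDim
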