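import Groth.Agent.SpRelDim.Basic
import Groth.Agent.AlgSpLib.LocPMore
import Groth.Agent.CMChart.Locus
import Groth.Agent.S9359

/-!
# Local dimensions of spaces and relative dimension
-/

universe u

open CategoryTheory CategoryTheory.Limits AlgebraicGeometry Opposite

set_option backward.isDefEq.respectTransparency false

namespace Groth.Agent.SpRelDim

open _root_.AlgSp Groth.Agent.AlgSpLib Groth.Agent.SpQS

theorem localDim_eq_of_etale {U V : Scheme.{u}} (e : U ⟶ V) [Etale e] (u : U) :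
    FlatMor.localDim U u = FlatMor.localDim V (e u) := by
  have : LocallyQuasiFinite e := UnivInjMor.lqf_of_unramified _
  exact CMChart.localDim_eq_of_lqf e u

theorem localDim_chart_indep {S : Scheme.{u}} {X : Sp S} (hX : IsAlgSpace X) {U U' : Over S}
    {a : (yon S).obj U ⟶ X} {a' : (yon S).obj U' ⟶ X} (ha : RepWith @Etale a) (ha' : RepWith @Etale a')
    {u : U.left} {u' : U'.left} (e : Points.ofPt a u = Points.ofPt a' u') :
    FlatMor.localDim U.left u = FlatMor.localDim U'.left u' := by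
  obtain ⟨W, p₁, p₂, sq⟩ := exists_pullback hX.diag a a'
  have : Etale p₁.left := (repWith_yon_iff p₁).1 (repWith_baseChange sq.flip ha')
  have : Etale p₂.left := (repWith_yon_iff p₂).1 (repWith_baseChange sq ha)
  obtain ⟨w, rfl, rfl⟩ := (ofPt_eq_iff sq u u').1 e
  rw [← localDim_eq_of_etale p₁.left w, ← localDim_eq_of_etale p₂.left w]

theorem hasAt_localDim_iff {S : Scheme.{u}} {X : Sp S} (hX : IsAlgSpace X) (Q : WithBot ℕ∞ → Prop) {U : Over S}
    {a : (yon S).obj U ⟶ X} (ha : RepWith @Etale a) {u : U.left} {x : Points X} (hu : Points.ofPt a u = x) :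
    HasAt (fun U u => Q (FlatMor.localDim ↥U u)) X x ↔ Q (FlatMor.localDim U.left u) := by
  refine ⟨?_, fun hq => ⟨U, a, u, ha, hu, hq⟩⟩
  rintro ⟨U', a', u', ha', hu', hq⟩
  rwa [localDim_chart_indep hX ha ha' (hu.trans hu'.symm)]

/-- a chart with locally noetherian source and target -/
theorem exists_noeth_chart {S : Scheme.{u}} {X Y : Sp S} (hX : IsAlgSpace X) (hY : IsAlgSpace Y) (f : X ⟶ Y)
    (hf : LocP @LocallyOfFiniteType f) (h : IsLocNoethSp Y) (x : Points X) :
    ∃ (U V : Over S) (a : (yon S).obj U ⟶ X) (b : (yon S).obj V ⟶ Y) (h : U ⟶ V) (u : U.left),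
      RepWith @Etale a ∧ RepWith @Etale b ∧ a ≫ f = (yon S).map h ≫ b ∧ Points.ofPt a u = x ∧
      IsLocallyNoetherian V.left ∧ IsLocallyNoetherian U.left := by
  obtain ⟨V, q, hqe, hqs, hV⟩ := h
  obtain ⟨U, p, α, hpe, hps, hα⟩ := exists_chart_lift hX hY f hqe hqs
  obtain ⟨u, hu⟩ := ofPt_surjective hps x
  have : LocallyOfFiniteType α.left := hf p q α hpe hqe hα
  exact ⟨U, V, p, q, α, u, hpe, hqe, hα, hu, hV, LocallyOfFiniteType.isLocallyNoetherian α.left⟩

theorem localDim_eq_of_fibreDimAt {U V : Scheme.{u}} [IsLocallyNoetherian U] [IsLocallyNoetherian V] (h : U ⟶ V)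
    [Flat h] [LocallyOfFiniteType h] {d : ℕ} (hd : ∀ u, FlatMor.fibreDimAt h u = d) (u : U) :
    FlatMor.localDim U u = FlatMor.localDim V (h u) + (d : WithBot ℕ∞) :=
  Groth.Agent.S9359.result h d (LocalDimBC.hasRelDim_of_fibreDimAt h d hd) u

/-- near every point a smooth morphism has constant fibre dimension -/
theorem exists_constant_fibreDim_of_smooth {U V : Scheme.{u}} (h : U ⟶ V) [Smooth h] (u : U) :
    ∃ (W : Scheme.{u}) (j : W ⟶ U) (w : W) (n : ℕ), IsOpenImmersion j ∧ j w = u ∧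
      ∀ z, FlatMor.fibreDimAt (j ≫ h) z = n := by
  obtain ⟨A, hA, B, hB, hu, e, he⟩ := Smooth.exists_isStandardSmooth h u
  obtain ⟨w, hw⟩ : u ∈ Set.range hB.fromSpec := hB.range_fromSpec.ge hu
  algebraize [(h.appLE A B e).hom]
  obtain ⟨_, _, _, _, ⟨P⟩⟩ := ‹Algebra.IsStandardSmooth Γ(V, A) Γ(U, B)›
  have : Algebra.IsStandardSmoothOfRelativeDimension P.dimension Γ(V, A) Γ(U, B) :=
    P.isStandardSmoothOfRelativeDimension rfl
  refine ⟨_, hB.fromSpec, w, P.dimension, inferInstance, hw, fun z => ?_⟩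
  rw [← IsAffineOpen.SpecMap_appLE_fromSpec h hA hB e, ← LocalDimBC.fibreDimAt_comp_openImmersion]
  exact LocalDimBC.fibreDimAt_Spec_of_isStandardSmooth P.dimension (R := Γ(V, A)) (A := Γ(U, B)) z

end Groth.Agent.SpRelDim
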