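import Groth.Agent.LocalDimBC.Smooth
import Groth.Agent.UnivInjMor.Basic

/-!
# Fibre dimensions and etale morphisms
-/

universe u

open CategoryTheory CategoryTheory.Limits AlgebraicGeometry

set_option backward.isDefEq.respectTransparency false

namespace Groth.Agent.SpRelDim

variable {W U V Z : Scheme.{u}}

theorem exists_fibre (h : U ⟶ V) (u : U) : ∃ (P : Scheme.{u}) (i : P ⟶ U) (q : P ⟶ Spec (V.residueField (h u))) (p : P),
    IsPullback i q h (V.fromSpecResidueField (h u)) ∧ i p = u :=
  ⟨h.fiber (h u), h.fiberι (h u), h.fiberToSpecResidueField (h u), h.asFiber u, IsPullback.of_hasPullback _ _,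
    h.fiberι_asFiber u⟩

theorem fibreDimAt_eq_localDim_of_isPullback (h : U ⟶ V) [LocallyOfFiniteType h] {K : Type u} [Field K]
    {g : Spec (CommRingCat.of K) ⟶ V} {P : Scheme.{u}} {i : P ⟶ U} {q : P ⟶ Spec (CommRingCat.of K)}
    (sq : IsPullback i q h g) (p : P) : FlatMor.fibreDimAt h (i p) = FlatMor.localDim P p := by
  rw [← LocalDimBC.fibreDimAt_of_isPullback h g i q sq p]
  exact CMChart.fibreDimAt_eq_localDim q p

/-- Fibre dimensions do not change along an etale morphism to the source. -/
theorem fibreDimAt_etale_comp (e : W ⟶ U) [Etale e] (h : U ⟶ V) [LocallyOfFiniteType h] (w : W) :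
    FlatMor.fibreDimAt (e ≫ h) w = FlatMor.fibreDimAt h (e w) := by
  obtain ⟨P, i, q, p, sq, hp⟩ := exists_fibre h (e w)
  obtain ⟨x, hx₁, hx₂⟩ := Scheme.exists_preimage_of_isPullback (IsPullback.of_hasPullback e i) w p hp.symm
  have sqQ : IsPullback (pullback.fst e i) (pullback.snd e i ≫ q) (e ≫ h) (V.fromSpecResidueField (h (e w))) :=
    (IsPullback.of_hasPullback e i).paste_vert sq
  have h1 := fibreDimAt_eq_localDim_of_isPullback (K := V.residueField (h (e w))) (e ≫ h) sqQ x
  have h2 := fibreDimAt_eq_localDim_of_isPullback (K := V.residueField (h (e w))) h sq p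
  rw [hx₁] at h1
  rw [hp] at h2
  have : Etale (pullback.snd e i) := MorphismProperty.pullback_snd _ _ ‹_›
  have : LocallyQuasiFinite (pullback.snd e i) := UnivInjMor.lqf_of_unramified _
  rw [h1, h2, CMChart.localDim_eq_of_lqf (pullback.snd e i) x, hx₂]

/-- Fibre dimensions do not change along an etale morphism from the target. -/
theorem fibreDimAt_comp_etale (h : U ⟶ V) [LocallyOfFiniteType h] (g : V ⟶ Z) [Etale g] (u : U) :
    FlatMor.fibreDimAt (h ≫ g) u = FlatMor.fibreDimAt h u := by
  let Γ : U ⟶ pullback (h ≫ g) g := pullback.lift (𝟙 U) h (Category.id_comp _)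
  have : MorphismProperty.HasOfPostcompProperty @IsOpenImmersion @Etale :=
    MorphismProperty.hasOfPostcompProperty_iff_le_diagonal.2 fun _ _ f (hf : Etale f) =>
      (inferInstance : IsOpenImmersion (pullback.diagonal f))
  have : IsOpenImmersion Γ := MorphismProperty.of_postcomp (W := @IsOpenImmersion) (W' := @Etale) Γ
    (pullback.fst (h ≫ g) g) (MorphismProperty.pullback_fst _ _ ‹_›) (by rw [pullback.lift_fst]; infer_instance)
  have h1 := LocalDimBC.fibreDimAt_of_isPullback (h ≫ g) g (pullback.fst (h ≫ g) g) (pullback.snd (h ≫ g) g)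
    (IsPullback.of_hasPullback _ _) (Γ u)
  have h2 := LocalDimBC.fibreDimAt_openImmersion_comp Γ (pullback.snd (h ≫ g) g) u
  rw [← Scheme.Hom.comp_apply, pullback.lift_fst] at h1
  rw [pullback.lift_snd] at h2
  rw [h2, h1]
  rfl

end Groth.Agent.SpRelDim
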