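import Groth.Agent.SpRelDim.Scheme
import Groth.Agent.SpQS.QFAt

/-!
# The relative dimension of a morphism of algebraic spaces at a point
-/

universe u

open CategoryTheory CategoryTheory.Limits AlgebraicGeometry Opposite

set_option backward.isDefEq.respectTransparency false

namespace Groth.Agent.SpRelDim

open _root_.AlgSp Groth.Agent.AlgSpLib Groth.Agent.SpQS

variable {S : Scheme.{u}} {X Y : Sp S}

/-- the fibre dimension does not depend on the chart -/
theorem fibreDimAt_chart_indep (hX : IsAlgSpace X) (hY : IsAlgSpace Y) (f : X ⟶ Y)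
    (hf : LocP @LocallyOfFiniteType f) {U V U' V' : Over S} {a : (yon S).obj U ⟶ X} {b : (yon S).obj V ⟶ Y}
    {h : U ⟶ V} (ha : RepWith @Etale a) (hb : RepWith @Etale b) (comm : a ≫ f = (yon S).map h ≫ b)
    {a' : (yon S).obj U' ⟶ X} {b' : (yon S).obj V' ⟶ Y} {h' : U' ⟶ V'} (ha' : RepWith @Etale a')
    (hb' : RepWith @Etale b') (comm' : a' ≫ f = (yon S).map h' ≫ b') {u : U.left} {u' : U'.left}
    (e : Points.ofPt a u = Points.ofPt a' u') :
    FlatMor.fibreDimAt h.left u = FlatMor.fibreDimAt h'.left u' := by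
  obtain ⟨V'', v₁, v₂, sqV⟩ := exists_pullback hY.diag b b'
  obtain ⟨U'', p₁, p₂, sqU⟩ := exists_pullback hX.diag a a'
  obtain ⟨k, hk⟩ := exists_map_eq (sqV.lift ((yon S).map (p₁ ≫ h)) ((yon S).map (p₂ ≫ h')) (by
    rw [Functor.map_comp, Functor.map_comp, Category.assoc, Category.assoc, ← comm, ← comm', reassoc_of% sqU.w]))
  have hk₁ : k.left ≫ v₁.left = p₁.left ≫ h.left := congrArg (fun g => g.left)
    ((yon S).map_injective (by rw [Functor.map_comp, hk, sqV.lift_fst]) : k ≫ v₁ = p₁ ≫ h)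
  have hk₂ : k.left ≫ v₂.left = p₂.left ≫ h'.left := congrArg (fun g => g.left)
    ((yon S).map_injective (by rw [Functor.map_comp, hk, sqV.lift_snd]) : k ≫ v₂ = p₂ ≫ h')
  have : Etale v₁.left := (repWith_yon_iff v₁).1 (repWith_baseChange sqV.flip hb')
  have : Etale v₂.left := (repWith_yon_iff v₂).1 (repWith_baseChange sqV hb)
  have : Etale p₁.left := (repWith_yon_iff p₁).1 (repWith_baseChange sqU.flip ha')
  have : Etale p₂.left := (repWith_yon_iff p₂).1 (repWith_baseChange sqU ha)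
  have : LocallyOfFiniteType h.left := hf a b h ha hb comm
  have : LocallyOfFiniteType h'.left := hf a' b' h' ha' hb' comm'
  have : LocallyOfFiniteType k.left := by
    have : LocallyOfFiniteType (k.left ≫ v₁.left) := by rw [hk₁]; infer_instance
    exact locallyOfFiniteType_of_comp k.left v₁.left
  obtain ⟨w, rfl, rfl⟩ := (ofPt_eq_iff sqU u u').1 e
  rw [← fibreDimAt_etale_comp p₁.left h.left w, ← hk₁, fibreDimAt_comp_etale,
    ← fibreDimAt_comp_etale k.left v₂.left w, hk₂, fibreDimAt_etale_comp]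

/-- a condition on the relative dimension at a point may be read in any chart -/
theorem hasAtMor_fibreDim_iff (hX : IsAlgSpace X) (hY : IsAlgSpace Y) (f : X ⟶ Y)
    (hf : LocP @LocallyOfFiniteType f) (Q : WithBot ℕ∞ → Prop) {U V : Over S} {a : (yon S).obj U ⟶ X}
    {b : (yon S).obj V ⟶ Y} {h : U ⟶ V} (ha : RepWith @Etale a) (hb : RepWith @Etale b)
    (comm : a ≫ f = (yon S).map h ≫ b) {u : U.left} {x : Points X} (hu : Points.ofPt a u = x) :
    HasAtMor (fun _ _ h u => Q (FlatMor.fibreDimAt h u)) f x ↔ Q (FlatMor.fibreDimAt h.left u) := by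
  refine ⟨?_, fun hq => ⟨U, V, a, b, h, u, ha, hb, comm, hu, hq⟩⟩
  rintro ⟨U', V', a', b', h', u', ha', hb', comm', hu', hq⟩
  rwa [fibreDimAt_chart_indep hX hY f hf ha hb comm ha' hb' comm' (hu.trans hu'.symm)]

theorem exists_chart_at (hX : IsAlgSpace X) (hY : IsAlgSpace Y) (f : X ⟶ Y) (x : Points X) :
    ∃ (U V : Over S) (a : (yon S).obj U ⟶ X) (b : (yon S).obj V ⟶ Y) (h : U ⟶ V) (u : U.left),
      RepWith @Etale a ∧ RepWith @Surjective a ∧ RepWith @Etale b ∧ a ≫ f = (yon S).map h ≫ b ∧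
        Points.ofPt a u = x := by
  obtain ⟨U, V, a, b, h, ha, has, hb, comm⟩ := exists_chart_atlas hX hY f
  obtain ⟨u, hu⟩ := ofPt_surjective has x
  exact ⟨U, V, a, b, h, u, ha, has, hb, comm, hu⟩

/-- the relative dimension at a point is invariant under base change -/
theorem hasAtMor_fibreDim_baseChange {X' Y' : Sp S} (hX : IsAlgSpace X) (hY : IsAlgSpace Y) (hX' : IsAlgSpace X')
    (hY' : IsAlgSpace Y') {f : X ⟶ Y} {g : Y' ⟶ Y} {g' : X' ⟶ X} {f' : X' ⟶ Y'} (sq : IsPullback g' f' f g)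
    (hf : LocP @LocallyOfFiniteType f) (Q : WithBot ℕ∞ → Prop) (x' : Points X') :
    HasAtMor (fun _ _ h u => Q (FlatMor.fibreDimAt h u)) f' x' ↔
      HasAtMor (fun _ _ h u => Q (FlatMor.fibreDimAt h u)) f (Points.map g' x') := by
  obtain ⟨U, V, a, b, h, ha, has, hb, comm⟩ := exists_chart_atlas hX hY f
  obtain ⟨W, q, hq, hqs⟩ := hY'.atlas
  obtain ⟨V'', v₁, v₂, sqV⟩ := exists_pullback hY.diag (q ≫ g) b
  obtain ⟨U'', u₁, h'', sqU⟩ := exists_pullback (IsAlgSpace.yon_obj V).diag ((yon S).map h) ((yon S).map v₂)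
  have sqR := IsPullback.of_hasPullback a g'
  have sqR' := sqR.paste_vert sq
  have sqT : IsPullback ((yon S).map u₁) ((yon S).map h'' ≫ (yon S).map v₁) (a ≫ f) (q ≫ g) := by
    rw [comm]; exact sqU.paste_vert sqV.flip
  let m := sqR'.lift ((yon S).map u₁) (((yon S).map h'' ≫ (yon S).map v₁) ≫ q) (by rw [Category.assoc, sqT.w])
  have sqM : IsPullback m ((yon S).map h'' ≫ (yon S).map v₁) (pullback.snd a g' ≫ f') q :=
    IsPullback.of_right (by rw [sqR'.lift_fst]; exact sqT) (sqR'.lift_snd _ _ _) sqR'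
  have ha'' : RepWith @Etale (m ≫ pullback.snd a g') :=
    repWith_comp (repWith_baseChange sqM.flip hq) (repWith_baseChange sqR ha)
  have has'' : RepWith @Surjective (m ≫ pullback.snd a g') :=
    repWith_comp (repWith_baseChange sqM.flip hqs) (repWith_baseChange sqR has)
  have hb'' : RepWith @Etale ((yon S).map v₁ ≫ q) := repWith_comp (repWith_baseChange sqV.flip hb) hq
  have comm'' : (m ≫ pullback.snd a g') ≫ f' = (yon S).map h'' ≫ (yon S).map v₁ ≫ q := by
    rw [Category.assoc, sqM.w, Category.assoc]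
  obtain ⟨x, rfl⟩ := ofPt_surjective has'' x'
  have hx : Points.map g' (Points.ofPt (m ≫ pullback.snd a g') x) = Points.ofPt a (u₁.left x) := by
    rw [Points.map_ofPt, Category.assoc, ← sqR.w, sqR'.lift_fst_assoc]
    exact ofPt_comp _ _ _
  rw [hasAtMor_fibreDim_iff hX' hY' f' (locP_baseChange etST_lft hX hY hX' hY' sq hf) Q ha'' hb'' comm'' rfl,
    hasAtMor_fibreDim_iff hX hY f hf Q ha hb comm hx.symm]
  have : LocallyOfFiniteType h.left := hf a b h ha hb comm
  rw [LocalDimBC.fibreDimAt_of_isPullback h.left v₂.left u₁.left h''.left (isPullback_yon_iff.1 sqU) x]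

end Groth.Agent.SpRelDim
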