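import Groth.Agent.SpRelDim.Basic
import Groth.Agent.TopDim.Basic
import Groth.Agent.S10678
import Groth.Agent.S0402
import Groth.Agent.S0404
import Groth.Agent.AlgSpLib.QCompact
import Groth.Agent.AlgSpLib.Criteria
import Groth.Prelude.Def_AlgSp4

/-!
# Semicontinuity of the fibre dimension on the base
-/

set_option autoImplicit false

universe u

open CategoryTheory CategoryTheory.Limits AlgebraicGeometry Opposite Topology

set_option backward.isDefEq.respectTransparency false

namespace Groth.Agent.SpRelDim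

open _root_.AlgSp Groth.Agent.AlgSpLib Groth.Agent.SpQS

variable {S : Scheme.{u}}

theorem lt_succ_iff (D : WithBot ℕ∞) (m : ℕ) :
    D < (((m + 1 : ℕ) : ℕ∞) : WithBot ℕ∞) ↔ D ≤ (m : WithBot ℕ∞) := by
  induction D with
  | bot => simp [WithBot.bot_lt_iff_ne_bot]
  | coe a =>
    show _ ↔ (a : WithBot ℕ∞) ≤ ((m : ℕ∞) : WithBot ℕ∞)
    rw [WithBot.coe_lt_coe, WithBot.coe_le_coe]
    induction a with
    | top => simp
    | coe a => exact_mod_cast Nat.lt_succ_iff

/-- the fibre over `y` has dimension at most `n` -/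
def DimLE {X Y : Sp S} (f : X ⟶ Y) (n : ℕ) (y : Points Y) : Prop :=
  ∀ x : Points X, Points.map f x = y →
    HasAtMor (fun _ _ h u => FlatMor.fibreDimAt h u ≤ (n : WithBot ℕ∞)) f x

theorem fiber_dim_le_iff {U V : Scheme.{u}} (h : U ⟶ V) (v : V) (c : WithBot ℕ∞) :
    topologicalKrullDim (h.fiber v) ≤ c ↔ ∀ u, h u = v → FlatMor.fibreDimAt h u ≤ c := by
  rw [TopDim.dim_eq_iSup_localDim, iSup_le_iff]
  constructor
  · rintro H u rfl
    exact H _
  · intro H z
    have hz : h (h.fiberι v z) = v := by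
      have : h.fiberι v z ∈ Set.range (h.fiberι v) := ⟨z, rfl⟩
      rwa [Scheme.Hom.range_fiberι] at this
    have h2 := H (h.fiberι v z) hz
    unfold FlatMor.fibreDimAt at h2
    generalize hu : h.fiberι v z = u at h2 hz
    subst hz
    rwa [show z = h.asFiber u from (h.fiberι (h u)).isEmbedding.injective
      (hu.trans (h.fiberι_asFiber u).symm)]

theorem isOpen_dimLE_of_proper {X Y : Sp S} (hX : IsAlgSpace X) (hY : IsAlgSpace Y) (f : X ⟶ Y)
    (hf : IsProperMor f) (n : ℕ) : IsOpen {y | DimLE f n y} := by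
  obtain ⟨U, V, a, b, h, ha, has, hb, comm⟩ := exists_chart_atlas hX hY f
  have : LocallyOfFiniteType h.left := hf.2.1.1 a b h ha hb comm
  have ho : IsOpen {x | HasAtMor (fun _ _ h u => FlatMor.fibreDimAt h u ≤ (n : WithBot ℕ∞)) f x} := by
    rw [← ((isOpenMap_ofPt (repWith_universallyOpen_of_etale ha)).isQuotientMap (Points.continuous_ofPt a)
      (ofPt_surjective has)).isOpen_preimage]
    convert S0402.result h.left n using 1
    ext w
    exact hasAtMor_fibreDim_iff hX hY f hf.2.1.1 (fun e => e ≤ (n : WithBot ℕ∞)) ha hb comm rfl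
  have hc : IsClosedMap (Points.map f) :=
    hf.2.2 hY (𝟙 Y) (𝟙 X) f IsPullback.of_id_fst
  convert (hc _ ho.isClosed_compl).isOpen_compl using 1
  ext y
  exact ⟨fun hy ⟨x, hx, hxy⟩ => hx (hy x hxy), fun hy x hxy => by_contra fun hx => hy ⟨x, hx, hxy⟩⟩

theorem isOpen_not_dimLE_of_flat {X Y : Sp S} (hX : IsAlgSpace X) (hY : IsAlgSpace Y) (f : X ⟶ Y)
    (hfl : LocP @Flat f) (hlfp : LocP @LocallyOfFinitePresentation f) (hlft : LocP @LocallyOfFiniteType f)
    (hqc : IsQuasiCompactMor f) (n : ℕ) : IsOpen {y | ¬ DimLE f n y} := by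
  rw [isOpen_iff_forall_mem_open]
  intro y hy
  obtain ⟨V, b, v, hV, hb, hv, -⟩ := exists_affine_chart_at hY y
  have sqP := IsPullback.of_hasPullback f b
  have hP : IsAlgSpace (pullback f b) := isAlgSpace_of_isPullback_space hY hX (IsAlgSpace.yon_obj V) sqP
  have : CompactSpace (Points (pullback f b)) :=
    compactSpace_of_isQuasiCompactSp (hqc (IsAlgSpace.yon_obj V) (isQuasiCompactSp_yon V) b _ _ sqP)
  obtain ⟨W, c, hW, hc, hcs⟩ := exists_affine_chart_of_compact hP
  obtain ⟨h, hh⟩ := exists_map_eq (c ≫ pullback.snd f b)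
  have haX : RepWith @Etale (c ≫ pullback.fst f b) := repWith_comp hc (repWith_baseChange sqP.flip hb)
  have comm : (c ≫ pullback.fst f b) ≫ f = (yon S).map h ≫ b := by
    rw [Category.assoc, sqP.w, ← Category.assoc, hh]
  have : Flat h.left := hfl _ b h haX hb comm
  have : LocallyOfFinitePresentation h.left := hlfp _ b h haX hb comm
  have : QuasiCompact h.left := inferInstance
  have : QuasiSeparated h.left := inferInstance
  have key : ∀ v : V.left, ¬ DimLE f n (Points.ofPt b v) ↔ (n : WithBot ℕ∞) < topologicalKrullDim (h.left.fiber v) := by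
    intro v
    rw [← not_le (a := topologicalKrullDim (h.left.fiber v)), not_iff_not, fiber_dim_le_iff]
    constructor
    · intro H w hw
      refine (hasAtMor_fibreDim_iff hX hY f hlft (fun e => e ≤ (n : WithBot ℕ∞)) haX hb comm rfl).1 (H _ ?_)
      rw [Points.map_ofPt, comm, ofPt_comp, hw]
    · intro H x hx
      obtain ⟨z, hz₁, hz₂⟩ := exists_point_of_isPullback sqP x (Points.ofScheme V v) (by
        rw [← Points.ofPt_eq_map_ofScheme]; exact hx)
      obtain ⟨w, rfl⟩ := ofPt_surjective hcs z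
      have hwv : h.left w = v := (Points.schemeEquiv V).injective (by
        show Points.ofScheme V (h.left w) = Points.ofScheme V v
        rw [← hz₂, Points.map_ofPt, ← hh, ofScheme_map])
      exact (hasAtMor_fibreDim_iff hX hY f hlft (fun e => e ≤ (n : WithBot ℕ∞)) haX hb comm
        (by rw [← hz₁, Points.map_ofPt])).2 (H w hwv)
  refine ⟨Points.ofPt b '' {v | (n : WithBot ℕ∞) < topologicalKrullDim (h.left.fiber v)}, ?_,
    isOpenMap_ofPt (repWith_universallyOpen_of_etale hb) _ (S0404.result h.left n), ⟨v, ?_, hv⟩⟩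
  · rintro _ ⟨v', hv', rfl⟩
    exact (key v').2 hv'
  · refine (key v).1 ?_
    rw [hv]
    exact hy

theorem isClosed_range_of_proper {X Y : Sp S} (hY : IsAlgSpace Y) (f : X ⟶ Y) (hf : IsProperMor f) :
    IsClosed (Set.range (Points.map f)) := by
  have hc : IsClosedMap (Points.map f) :=
    hf.2.2 hY (𝟙 Y) (𝟙 X) f IsPullback.of_id_fst
  exact hc.isClosed_range

theorem isOpen_range_of_flat {X Y : Sp S} (hX : IsAlgSpace X) (hY : IsAlgSpace Y) (f : X ⟶ Y)
    (hfl : LocP @Flat f) (hlfp : LocP @LocallyOfFinitePresentation f) : IsOpen (Set.range (Points.map f)) := by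
  obtain ⟨U, V, a, b, h, ha, has, hb, comm⟩ := exists_chart_atlas hX hY f
  have : Flat h.left := hfl a b h ha hb comm
  have : LocallyOfFinitePresentation h.left := hlfp a b h ha hb comm
  have e : Set.range (Points.map f) = Points.ofPt b '' Set.range h.left := by
    rw [← (ofPt_surjective has).range_comp, ← Set.range_comp]
    congr 1
    funext w
    show Points.map f (Points.ofPt a w) = Points.ofPt b (h.left w)
    rw [Points.map_ofPt, comm, ofPt_comp]
  rw [e]
  exact isOpenMap_ofPt (repWith_universallyOpen_of_etale hb) _ h.left.isOpenMap.isOpen_range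

theorem exists_dimLE {X Y : Sp S} (hX : IsAlgSpace X) (hY : IsAlgSpace Y) (f : X ⟶ Y)
    (hlft : LocP @LocallyOfFiniteType f) (hqc : IsQuasiCompactMor f) (y : Points Y) : ∃ n, DimLE f n y := by
  obtain ⟨V, b, v, hV, hb, hv, -⟩ := exists_affine_chart_at hY y
  have sqP := IsPullback.of_hasPullback f b
  have hP : IsAlgSpace (pullback f b) := isAlgSpace_of_isPullback_space hY hX (IsAlgSpace.yon_obj V) sqP
  have : CompactSpace (Points (pullback f b)) :=
    compactSpace_of_isQuasiCompactSp (hqc (IsAlgSpace.yon_obj V) (isQuasiCompactSp_yon V) b _ _ sqP)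
  obtain ⟨W, c, hW, hc, hcs⟩ := exists_affine_chart_of_compact hP
  obtain ⟨h, hh⟩ := exists_map_eq (c ≫ pullback.snd f b)
  have haX : RepWith @Etale (c ≫ pullback.fst f b) := repWith_comp hc (repWith_baseChange sqP.flip hb)
  have comm : (c ≫ pullback.fst f b) ≫ f = (yon S).map h ≫ b := by
    rw [Category.assoc, sqP.w, ← Category.assoc, hh]
  have : LocallyOfFiniteType h.left := hlft _ b h haX hb comm
  obtain ⟨t, ht⟩ := isCompact_univ.elim_finite_subcover (fun n : ℕ => {w | FlatMor.fibreDimAt h.left w ≤ n})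
    (fun n => S0402.result h.left n) fun w _ => by
      obtain ⟨n, hn⟩ := Groth.Agent.Unibranch.exists_fibreDimAt_eq h.left w
      exact Set.mem_iUnion.2 ⟨n, hn.le⟩
  refine ⟨t.sup id, fun x hx => ?_⟩
  obtain ⟨z, hz₁, -⟩ := exists_point_of_isPullback sqP x (Points.ofScheme V v) (by
    rw [← Points.ofPt_eq_map_ofScheme, hv]; exact hx)
  obtain ⟨w, rfl⟩ := ofPt_surjective hcs z
  obtain ⟨m, hm, hwm⟩ := Set.mem_iUnion₂.1 (ht (Set.mem_univ w))
  exact (hasAtMor_fibreDim_iff hX hY f hlft (fun e => e ≤ ((t.sup id : ℕ) : WithBot ℕ∞)) haX hb comm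
    (by rw [← hz₁, Points.map_ofPt])).2 (le_trans hwm (by exact_mod_cast t.le_sup (f := id) hm))

/-- reading a condition on the dimension of the fibres over a point off one fibre -/
theorem fibreSet_eq {X Y : AlgSp.Space S} (f : X ⟶ Y) (hf : IsFiniteTypeMor f.hom) (P : WithBot ℕ∞ → Prop)
    (T : Set (Points Y.obj))
    (hT : ∀ (y : Points Y.obj) (D : WithBot ℕ∞), (D = ⊥ ↔ y ∉ Set.range (Points.map f.hom)) →
      (∀ n : ℕ, D ≤ n ↔ DimLE f.hom n y) → (P D ↔ y ∈ T)) :
    {y : Points Y.obj | ∀ (k : FieldPt Y.obj), Points.mk k = y →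
      ∀ (Xk : Sp S) (fst : Xk ⟶ X.obj) (snd : Xk ⟶ (yon S).obj k.pt),
        IsPullback fst snd f.hom k.toHom → P (AlgSp.dim Xk)} = T := by
  ext y
  constructor
  · intro hy
    obtain ⟨k, hk⟩ := Points.mk_surjective y
    have sq := IsPullback.of_hasPullback f.hom k.toHom
    obtain ⟨h1, h2⟩ := S10678.result f hf y k hk _ _ _ sq
    exact (hT y _ h1 h2).1 (hy k hk _ _ _ sq)
  · intro hy k hk Xk fst snd sq
    obtain ⟨h1, h2⟩ := S10678.result f hf y k hk Xk fst snd sq
    exact (hT y _ h1 h2).2 hy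

theorem isOpen_dim_lt {X Y : AlgSp.Space S} (f : X ⟶ Y) (hf : IsProperMor f.hom) (d : WithBot ℕ∞) :
    IsOpen {y : Points Y.obj | ∀ (k : FieldPt Y.obj), Points.mk k = y →
      ∀ (Xk : Sp S) (fst : Xk ⟶ X.obj) (snd : Xk ⟶ (yon S).obj k.pt),
        IsPullback fst snd f.hom k.toHom → AlgSp.dim Xk < d} := by
  have hle : ∀ n, IsOpen {y | DimLE f.hom n y} := fun n => isOpen_dimLE_of_proper X.property Y.property f.hom hf n
  have hbot : IsOpen (Set.range (Points.map f.hom))ᶜ := (isClosed_range_of_proper Y.property f.hom hf).isOpen_compl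
  induction d with
  | bot =>
    rw [fibreSet_eq f hf.2.1 (fun e => e < ⊥) ∅ (fun y D _ _ => by simp)]
    exact isOpen_empty
  | coe a =>
    induction a with
    | top =>
      rw [fibreSet_eq f hf.2.1 (fun e => e < ((⊤ : ℕ∞) : WithBot ℕ∞)) (⋃ n, {y | DimLE f.hom n y}) fun y D _ h2 => by
        refine ⟨fun hD => ?_, fun hy => ?_⟩
        · obtain ⟨n, hn⟩ := exists_dimLE X.property Y.property f.hom hf.2.1.1 hf.2.1.2 y
          exact Set.mem_iUnion.2 ⟨n, hn⟩
        · obtain ⟨n, hn⟩ := Set.mem_iUnion.1 hy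
          exact lt_of_le_of_lt ((h2 n).2 hn) (WithBot.coe_lt_coe.2 (ENat.natCast_lt_top n))]
      exact isOpen_iUnion hle
    | coe n =>
      cases n with
      | zero =>
        rw [fibreSet_eq f hf.2.1 (fun e => e < (((0 : ℕ) : ℕ∞) : WithBot ℕ∞)) (Set.range (Points.map f.hom))ᶜ
          fun y D h1 _ => by
            rw [Set.mem_compl_iff, ← h1]
            induction D with
            | bot => simp [WithBot.bot_lt_iff_ne_bot]
            | coe a => simp]
        exact hbot
      | succ m =>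
        rw [fibreSet_eq f hf.2.1 (fun e => e < (((m + 1 : ℕ) : ℕ∞) : WithBot ℕ∞)) {y | DimLE f.hom m y} fun y D _ h2 => by
          rw [Set.mem_setOf_eq, ← h2 m]
          exact lt_succ_iff D m]
        exact hle m

theorem isOpen_lt_dim {X Y : AlgSp.Space S} (f : X ⟶ Y) (hfl : LocP @Flat f.hom)
    (hlfp : LocP @LocallyOfFinitePresentation f.hom) (hf : IsFiniteTypeMor f.hom) (d : WithBot ℕ∞) :
    IsOpen {y : Points Y.obj | ∀ (k : FieldPt Y.obj), Points.mk k = y →
      ∀ (Xk : Sp S) (fst : Xk ⟶ X.obj) (snd : Xk ⟶ (yon S).obj k.pt),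
        IsPullback fst snd f.hom k.toHom → d < AlgSp.dim Xk} := by
  induction d with
  | bot =>
    rw [fibreSet_eq f hf (fun e => ⊥ < e) (Set.range (Points.map f.hom)) fun y D h1 _ => by
      rw [bot_lt_iff_ne_bot, ne_eq, h1, not_not]]
    exact isOpen_range_of_flat X.property Y.property f.hom hfl hlfp
  | coe a =>
    induction a with
    | top =>
      rw [fibreSet_eq f hf (fun e => ((⊤ : ℕ∞) : WithBot ℕ∞) < e) ∅ fun y D _ _ => by simp]
      exact isOpen_empty
    | coe n =>
      rw [fibreSet_eq f hf (fun e => (((n : ℕ) : ℕ∞) : WithBot ℕ∞) < e) {y | ¬ DimLE f.hom n y} fun y D _ h2 => by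
        rw [Set.mem_setOf_eq, ← h2 n, not_le]; rfl]
      exact isOpen_not_dimLE_of_flat X.property Y.property f.hom hfl hlfp hf.1 hf.2 n

theorem isOpen_dim_eq {X Y : AlgSp.Space S} (f : X ⟶ Y) (hf : IsProperMor f.hom) (hfl : LocP @Flat f.hom)
    (hlfp : LocP @LocallyOfFinitePresentation f.hom) (d : WithBot ℕ∞) :
    IsOpen {y : Points Y.obj | ∀ (k : FieldPt Y.obj), Points.mk k = y →
      ∀ (Xk : Sp S) (fst : Xk ⟶ X.obj) (snd : Xk ⟶ (yon S).obj k.pt),
        IsPullback fst snd f.hom k.toHom → AlgSp.dim Xk = d} := by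
  induction d with
  | bot =>
    rw [fibreSet_eq f hf.2.1 (fun e => e = ⊥) (Set.range (Points.map f.hom))ᶜ fun y D h1 _ => h1]
    exact (isClosed_range_of_proper Y.property f.hom hf).isOpen_compl
  | coe a =>
    induction a with
    | top =>
      rw [fibreSet_eq f hf.2.1 (fun e => e = ((⊤ : ℕ∞) : WithBot ℕ∞)) ∅ fun y D _ h2 => by
        refine iff_of_false (fun hD => ?_) id
        obtain ⟨n, hn⟩ := exists_dimLE X.property Y.property f.hom hf.2.1.1 hf.2.1.2 y
        have h := (h2 n).2 hn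
        rw [hD] at h
        exact absurd (WithBot.coe_le_coe.1 h) (not_le.2 (ENat.natCast_lt_top n))]
      exact isOpen_empty
    | coe n =>
      cases n with
      | zero =>
        rw [fibreSet_eq f hf.2.1 (fun e => e = (((0 : ℕ) : ℕ∞) : WithBot ℕ∞))
          ({y | DimLE f.hom 0 y} ∩ Set.range (Points.map f.hom)) fun y D h1 h2 => by
            rw [Set.mem_inter_iff, Set.mem_setOf_eq, ← h2 0, ← not_not (a := y ∈ Set.range _), ← h1]
            induction D with
            | bot => simp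
            | coe a => simp]
        exact (isOpen_dimLE_of_proper X.property Y.property f.hom hf 0).inter
          (isOpen_range_of_flat X.property Y.property f.hom hfl hlfp)
      | succ m =>
        rw [fibreSet_eq f hf.2.1 (fun e => e = (((m + 1 : ℕ) : ℕ∞) : WithBot ℕ∞))
          ({y | DimLE f.hom (m + 1) y} ∩ {y | ¬ DimLE f.hom m y}) fun y D _ h2 => by
            rw [Set.mem_inter_iff, Set.mem_setOf_eq, Set.mem_setOf_eq, ← h2, ← h2, ← lt_succ_iff D m]
            exact ⟨fun h => ⟨h.le, h.not_lt⟩, fun h => le_antisymm h.1 (not_lt.1 h.2)⟩]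
        exact (isOpen_dimLE_of_proper X.property Y.property f.hom hf _).inter
          (isOpen_not_dimLE_of_flat X.property Y.property f.hom hfl hlfp hf.2.1.1 hf.2.1.2 m)


end Groth.Agent.SpRelDim
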