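import Groth.Agent.SpQS.QFAt
import Groth.Agent.S10653
import Groth.Agent.LqfRep.Main
import Groth.Agent.AlgSpLib.ProperCrit
import Groth.Agent.AlgSpLib.LocPAt
import Groth.Agent.TopDim.Basic
import Mathlib.AlgebraicGeometry.ZariskisMainTheorem

/-!
# Flat proper morphisms finite over a dense open subspace
-/

set_option autoImplicit false

universe u

open CategoryTheory CategoryTheory.Limits AlgebraicGeometry Opposite

set_option backward.isDefEq.respectTransparency false

namespace Groth.Agent.SpRelDim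

open _root_.AlgSp Groth.Agent.AlgSpLib Groth.Agent.SpQS

variable {S : Scheme.{u}}

theorem zero_le_localDim (X : Type u) [TopologicalSpace X] (x : X) : 0 ≤ FlatMor.localDim X x := by
  refine le_iInf fun U => ?_
  haveI : Nonempty U.1 := ⟨⟨x, U.2⟩⟩
  haveI : Nonempty (TopologicalSpace.IrreducibleCloseds U.1) :=
    ⟨⟨irreducibleComponent (⟨x, U.2⟩ : U.1), isIrreducible_irreducibleComponent,
      isClosed_irreducibleComponent⟩⟩
  exact Order.krullDim_nonneg

theorem isFiniteMor_of_lqf_proper {X Y : Sp S} (hX : IsAlgSpace X) (hY : IsAlgSpace Y) (f : X ⟶ Y)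
    (hq : LocP (@LocallyQuasiFinite ⊓ @LocallyOfFiniteType) f) (hp : IsProperMor f) : IsFiniteMor f := by
  have hr : Representable f := LqfRep.representable_of_lqf_separated hX hY f hq hp.1 etST_lqf
  rw [isProperMor_iff_repWith hX hY hr] at hp
  rw [isFiniteMor_iff_repWith]
  refine ⟨hr, fun U W b c v sq => ?_⟩
  have h1 : IsProper v.left := hp.2 b c v sq
  have h2 := ((locP_iff_repWith etST_lqf hY hr).1 hq).2 b c v sq
  exact (IsFinite.iff_isProper_and_locallyQuasiFinite _).2 ⟨h1, h2.1⟩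

theorem isFiniteMor_of_dense {X Y V : AlgSp.Space S} (f : X ⟶ Y) (j : V ⟶ Y)
    (hf1 : LocP @Flat f.hom) (hf2 : IsProperMor f.hom)
    (hj1 : RepWith @IsOpenImmersion j.hom) (hj2 : Dense (Set.range (Points.map j.hom)))
    (P : AlgSp.Space S) (fst : P ⟶ X) (snd : P ⟶ V) (hP : IsPullback fst.hom snd.hom f.hom j.hom)
    (hV : IsFiniteMor snd.hom)
    (h : LocP @LocallyOfFinitePresentation f.hom ∨ IsQuasiCompactMor j.hom) :
    IsFiniteMor f.hom := by
  have hlft : LocP @LocallyOfFiniteType f.hom := hf2.2.1.1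
  obtain ⟨hX⟩ : Nonempty (IsAlgSpace X.obj) := ⟨X.property⟩
  obtain ⟨hY⟩ : Nonempty (IsAlgSpace Y.obj) := ⟨Y.property⟩
  obtain ⟨hPs⟩ : Nonempty (IsAlgSpace P.obj) := ⟨P.property⟩
  obtain ⟨hVs⟩ : Nonempty (IsAlgSpace V.obj) := ⟨V.property⟩
  rw [isFiniteMor_iff_repWith] at hV
  have hsl : LocP (@LocallyQuasiFinite ⊓ @LocallyOfFiniteType) snd.hom :=
    (locP_iff_repWith etST_lqf hVs hV.1).2 (repWith_mono (fun _ _ r hr => by
      have : IsFinite r := hr
      exact ⟨(inferInstance : LocallyQuasiFinite r), (inferInstance : LocallyOfFiniteType r)⟩) hV)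
  have hd := S10653.result f j 0 hf1 hlft hj1 hj2 P fst snd hP (fun x => by
    obtain ⟨U, W, a, b, k, u, ha, has, hb, comm, hu⟩ := exists_chart_at hPs hVs snd.hom x
    refine ⟨U, W, a, b, k, u, ha, hb, comm, hu, ?_⟩
    have hk := hsl a b k ha hb comm
    have := hk.1
    have := hk.2
    exact le_of_eq ((fibreDimAt_eq_zero_iff k.left u).2
      (k.left.quasiFiniteAt u))) h
  have hq : ∀ x, QFAtPt f.hom x := fun x => by
    obtain ⟨U, W, a, b, k, u, ha, hb, comm, hu, hle⟩ := hd x
    have : LocallyOfFiniteType k.left := hlft a b k ha hb comm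
    exact qfAtPt_of_chart hX hY f.hom hlft ha hb comm hu
      ((fibreDimAt_eq_zero_iff k.left u).1 (le_antisymm hle (zero_le_localDim _ _)))
  haveI := isZariskiLocalAtSource_of_listed
    (@LocallyQuasiFinite ⊓ @LocallyOfFiniteType : MorphismProperty Scheme.{u})
    (Or.inr (Or.inr (Or.inr (Or.inr (Or.inr (Or.inl fun _ _ g => Iff.rfl))))))
  exact isFiniteMor_of_lqf_proper hX hY f.hom ((locP_iff_forall_hasAtMor etST_lqf hX hY f.hom).2 fun x =>
    (hasAtMor_nhd_iff hX hY f.hom hlft x).2 (hq x)) hf2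

end Groth.Agent.SpRelDim
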