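import Groth.Agent.SpRelDim.DenseLfp
import Groth.Agent.LqfRep.Main
import Groth.Agent.SpDesc.Stage
import Mathlib.AlgebraicGeometry.Morphisms.FlatMono

/-!
# Flat morphisms which are isomorphisms over a schematically dense open
-/

set_option autoImplicit false

universe u

open CategoryTheory CategoryTheory.Limits AlgebraicGeometry Opposite

set_option backward.isDefEq.respectTransparency false

namespace Groth.Agent.SpRelDim

open _root_.AlgSp Groth.Agent.AlgSpLib Groth.Agent.SchImg Groth.Agent.SpQS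

theorem isOpenImmersion_of_iso_over_dense {X Y : Scheme.{u}} (f : X ⟶ Y) [IsSeparated f]
    [LocallyOfFinitePresentation f] [Flat f] (U : Y.Opens) [QuasiCompact U.ι] [IsSchemeTheoreticallyDominant U.ι]
    [IsIso (f ∣_ U)] : IsOpenImmersion f := by
  let q : pullback f f ⟶ Y := pullback.fst f f ≫ f
  have : IsSchemeTheoreticallyDominant (q ⁻¹ᵁ U).ι :=
    IsSchemeTheoreticallyDominant.of_isPullback (isPullback_morphismRestrict q U)
  let a : (q ⁻¹ᵁ U).toScheme ⟶ X := (q ⁻¹ᵁ U).ι ≫ pullback.fst f f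
  let b : (q ⁻¹ᵁ U).toScheme ⟶ X := (q ⁻¹ᵁ U).ι ≫ pullback.snd f f
  have e : a ≫ f = b ≫ f := by simp [a, b, pullback.condition]
  have ha : ∀ c : (q ⁻¹ᵁ U).toScheme ⟶ X, c ≫ f = a ≫ f → Set.range c ⊆ Set.range (f ⁻¹ᵁ U).ι := by
    intro c hc
    rintro _ ⟨z, rfl⟩
    rw [Scheme.Opens.range_ι]
    show f (c z) ∈ U
    rw [← Scheme.Hom.comp_apply, hc]
    exact z.2
  have hab : a = b := by
    have h1 := IsOpenImmersion.lift_fac (f ⁻¹ᵁ U).ι a (ha a rfl)
    have h2 := IsOpenImmersion.lift_fac (f ⁻¹ᵁ U).ι b (ha b e.symm)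
    have key : ∀ (l₁ l₂ : (q ⁻¹ᵁ U).toScheme ⟶ (f ⁻¹ᵁ U).toScheme), l₁ ≫ (f ⁻¹ᵁ U).ι = a →
        l₂ ≫ (f ⁻¹ᵁ U).ι = b → a = b := by
      intro l₁ l₂ e₁ e₂
      have : l₁ = l₂ := by
        rw [← cancel_mono (f ∣_ U), ← cancel_mono U.ι, Category.assoc, Category.assoc, morphismRestrict_ι,
          reassoc_of% e₁, reassoc_of% e₂, e]
      rw [← e₁, ← e₂, this]
    exact key _ _ h1 h2
  have hl : a ≫ pullback.diagonal f = (q ⁻¹ᵁ U).ι := by
    apply pullback.hom_ext
    · simp [a]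
    · rw [Category.assoc, pullback.diagonal_snd, Category.comp_id, hab]
  have hker : (pullback.diagonal f).ker = ⊥ := by
    refine le_bot_iff.1 (le_trans (Scheme.Hom.le_ker_comp a _) ?_)
    rw [hl, (q ⁻¹ᵁ U).ι.ker_eq_bot]
  have : IsIso (pullback.diagonal f) := IsClosedImmersion.isIso_iff_ker_eq_bot.2 hker
  have : Mono f := (pullback.isIso_diagonal_iff f).1 this
  exact IsOpenImmersion.of_flat_of_mono f

variable {S : Scheme.{u}}

theorem isOpenImmersion_of_schDense {X Y V P : AlgSp.Space S} (f : X ⟶ Y) (j : V ⟶ Y)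
    (hf1 : IsSeparatedMor f.hom) (hf2 : LocP @LocallyOfFiniteType f.hom) (hf3 : LocP @Flat f.hom)
    (hj1 : IsQuasiCompactMor j.hom) (hj2 : IsSchDense j.hom)
    (fst : P ⟶ X) (snd : P ⟶ V) (hP : IsPullback fst.hom snd.hom f.hom j.hom) [IsIso snd.hom] :
    RepWith @IsOpenImmersion f.hom := by
  obtain ⟨hX⟩ : Nonempty (IsAlgSpace X.obj) := ⟨X.property⟩
  obtain ⟨hY⟩ : Nonempty (IsAlgSpace Y.obj) := ⟨Y.property⟩
  obtain ⟨hV⟩ : Nonempty (IsAlgSpace V.obj) := ⟨V.property⟩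
  obtain ⟨hPs⟩ : Nonempty (IsAlgSpace P.obj) := ⟨P.property⟩
  have hiso : ∀ (Q : MorphismProperty Scheme.{u}), EtST Q → (∀ {A B : Scheme.{u}} (r : A ⟶ B), IsIso r → Q r) →
      LocP Q snd.hom := fun Q hQ h => (locP_iff_repWith hQ hV (repWith_of_isIso (P := MorphismProperty.isomorphisms _) snd.hom).1).2
    (repWith_mono (fun _ _ r hr => h r hr) (repWith_of_isIso (P := MorphismProperty.isomorphisms _) snd.hom))
  have hlfp := lfp_of_schDense hX hY hV hPs f.hom j.hom hf2 hf3 hj1 hj2 hP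
    (hiso _ etST_lfp fun r hr => inferInstance)
  have hdense : Dense (Set.range (Points.map j.hom)) := by
    obtain ⟨W, φ, hφ, hφs⟩ := hY.atlas
    obtain ⟨O, z, sqO⟩ := exists_open_pullback hj2.1 φ
    have : QuasiCompact O.ι := quasiCompact_ι hV hY hj2.1 hj1 sqO
    have : IsSchemeTheoreticallyDominant O.ι := ⟨SectExtU.ker_ι_eq_bot (dense_of_schDense hY hj2 hφ sqO)⟩
    have h1 : DenseRange O.ι := IsDominant.denseRange
    refine ((ofPt_surjective hφs).denseRange.comp h1 (Points.continuous_ofPt φ)).mono ?_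
    rintro _ ⟨o, rfl⟩
    exact (mem_open_iff sqO o.1).1 o.2
  have hd := S10653.result f j 0 hf3 hf2 hj2.1 hdense P fst snd hP (fun x => by
    obtain ⟨U, W, a, b, k, u, ha, has, hb, comm, hu⟩ := exists_chart_at hPs hV snd.hom x
    refine ⟨U, W, a, b, k, u, ha, hb, comm, hu, ?_⟩
    have hk := hiso _ etST_lqf (fun r hr => ⟨inferInstance, inferInstance⟩) a b k ha hb comm
    have := hk.1
    have := hk.2
    exact le_of_eq ((fibreDimAt_eq_zero_iff k.left u).2 (k.left.quasiFiniteAt u))) (Or.inl hlfp)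
  have hq : ∀ x, QFAtPt f.hom x := fun x => by
    obtain ⟨U, W, a, b, k, u, ha, hb, comm, hu, hle⟩ := hd x
    have : LocallyOfFiniteType k.left := hf2 a b k ha hb comm
    exact qfAtPt_of_chart hX hY f.hom hf2 ha hb comm hu
      ((fibreDimAt_eq_zero_iff k.left u).1 (le_antisymm hle (zero_le_localDim _ _)))
  haveI := isZariskiLocalAtSource_of_listed
    (@LocallyQuasiFinite ⊓ @LocallyOfFiniteType : MorphismProperty Scheme.{u})
    (Or.inr (Or.inr (Or.inr (Or.inr (Or.inr (Or.inl fun _ _ g => Iff.rfl))))))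
  have hr : Representable f.hom := LqfRep.representable_of_lqf_separated hX hY f.hom
    ((locP_iff_forall_hasAtMor etST_lqf hX hY f.hom).2 fun x => (hasAtMor_nhd_iff hX hY f.hom hf2 x).2 (hq x))
    hf1 etST_lqf
  obtain ⟨U, b, hb, hbs⟩ := hY.atlas
  obtain ⟨W, c, v, sq⟩ := exists_isPullback_of_representable hr b
  refine SpDesc.repWith_of_chart @IsOpenImmersion hY hr hb hbs sq ?_
  have : IsSeparated v.left := ((isSeparatedMor_iff_repWith hX hY hr).1 hf1).2 b c v sq
  have : Flat v.left := ((locP_iff_repWith etST_flat hY hr).1 hf3).2 b c v sq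
  have : LocallyOfFinitePresentation v.left := ((locP_iff_repWith etST_lfp hY hr).1 hlfp).2 b c v sq
  obtain ⟨O, z, sqO⟩ := exists_open_pullback hj2.1 b
  let W' : Over S := Over.mk ((v.left ⁻¹ᵁ O).ι ≫ W.hom)
  let i : W' ⟶ W := Over.homMk (v.left ⁻¹ᵁ O).ι rfl
  let k' : W' ⟶ Over.mk (O.ι ≫ U.hom) := Over.homMk (v.left ∣_ O) (by
    show (v.left ∣_ O) ≫ O.ι ≫ U.hom = (v.left ⁻¹ᵁ O).ι ≫ W.hom
    rw [morphismRestrict_ι_assoc, Over.w v])
  let oI : Over.mk (O.ι ≫ U.hom) ⟶ U := Over.homMk O.ι rfl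
  have sqA : IsPullback i k' v oI :=
    IsPullback.of_map (Over.forget S) (Over.OverMorphism.ext (morphismRestrict_ι v.left O).symm)
      (isPullback_morphismRestrict v.left O).flip
  have sqB := (sqA.map (yon S)).paste_horiz sq
  rw [← sqO.w] at sqB
  let m : (yon S).obj W' ⟶ P.obj := hP.lift ((yon S).map i ≫ c) ((yon S).map k' ≫ z) (by
    rw [Category.assoc, Category.assoc]
    exact (Category.assoc _ _ _).symm.trans sqB.w)
  have sqC : IsPullback m ((yon S).map k') snd.hom z := by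
    refine IsPullback.of_right ?_ (hP.lift_snd _ _ _) hP
    rw [hP.lift_fst]
    exact sqB
  have : IsIso (v.left ∣_ O) := (repWith_of_isIso (P := MorphismProperty.isomorphisms _) snd.hom).2 z m k' sqC
  have : QuasiCompact O.ι := quasiCompact_ι hV hY hj2.1 hj1 sqO
  have : IsSchemeTheoreticallyDominant O.ι := ⟨SectExtU.ker_ι_eq_bot (dense_of_schDense hY hj2 hb sqO)⟩
  exact isOpenImmersion_of_iso_over_dense v.left O

end Groth.Agent.SpRelDim
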