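import Groth.Agent.SpRelDim.FiniteDense
import Groth.Agent.S0451
import Groth.Agent.SchImg.Dense
import Groth.Agent.AlgSpLib.QCompact

/-!
# Finite presentation of flat morphisms from a schematically dense open subspace
-/

set_option autoImplicit false

universe u

open CategoryTheory CategoryTheory.Limits AlgebraicGeometry Opposite

set_option backward.isDefEq.respectTransparency false

namespace Groth.Agent.SpRelDim

open _root_.AlgSp Groth.Agent.AlgSpLib Groth.Agent.SchImg

variable {S : Scheme.{u}}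

theorem lfp_of_schDense {X Y V P : Sp S} (hX : IsAlgSpace X) (hY : IsAlgSpace Y) (hV : IsAlgSpace V)
    (hP : IsAlgSpace P) (f : X ⟶ Y) (j : V ⟶ Y) (hf1 : LocP @LocallyOfFiniteType f) (hf2 : LocP @Flat f)
    (hj1 : IsQuasiCompactMor j) (hj2 : IsSchDense j) {fst : P ⟶ X} {snd : P ⟶ V}
    (sq : IsPullback fst snd f j) (hs : LocP @LocallyOfFinitePresentation snd) :
    LocP @LocallyOfFinitePresentation f := by
  intro U W a b k ha hb comm
  have : LocallyOfFiniteType k.left := hf1 a b k ha hb comm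
  have : Flat k.left := hf2 a b k ha hb comm
  obtain ⟨O, z, sqO⟩ := exists_open_pullback hj2.1 b
  have : QuasiCompact O.ι := quasiCompact_ι hV hY hj2.1 hj1 sqO
  have : IsSchemeTheoreticallyDominant O.ι := ⟨SectExtU.ker_ι_eq_bot (dense_of_schDense hY hj2 hb sqO)⟩
  let U' : Over S := Over.mk ((k.left ⁻¹ᵁ O).ι ≫ U.hom)
  let i : U' ⟶ U := Over.homMk (k.left ⁻¹ᵁ O).ι rfl
  let k' : U' ⟶ Over.mk (O.ι ≫ W.hom) := Over.homMk (k.left ∣_ O) (by
    show (k.left ∣_ O) ≫ O.ι ≫ W.hom = (k.left ⁻¹ᵁ O).ι ≫ U.hom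
    rw [morphismRestrict_ι_assoc, Over.w k])
  have hk : k' ≫ (Over.homMk O.ι rfl : Over.mk (O.ι ≫ W.hom) ⟶ W) = i ≫ k :=
    Over.OverMorphism.ext (morphismRestrict_ι k.left O)
  let m : (yon S).obj U' ⟶ P := sq.lift ((yon S).map i ≫ a) ((yon S).map k' ≫ z) (by
    rw [Category.assoc, Category.assoc, sqO.w, ← Functor.map_comp_assoc, hk, Functor.map_comp_assoc, comm])
  have het : ∀ {A B : Sp S} (r : A ⟶ B), RepWith @IsOpenImmersion r → RepWith @Etale r := fun r hr =>
    repWith_mono (P := @IsOpenImmersion) (Q := @Etale)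
      (fun _ _ g hg => have : IsOpenImmersion g := hg; inferInstance) hr
  have hfst : RepWith @Etale fst := repWith_baseChange sq.flip (het _ hj2.1)
  have hm : RepWith @Etale m := repWith_etale_of_comp hP hX (by
    rw [sq.lift_fst]
    exact repWith_comp ((repWith_yon_iff i).2 (inferInstanceAs (Etale (k.left ⁻¹ᵁ O).ι))) ha)
    (isEtaleMor_of_repWith' hfst)
  have h' : LocallyOfFinitePresentation (k.left ∣_ O) :=
    hs m z k' hm (repWith_baseChange sqO.flip hb) (sq.lift_snd _ _ _)
  exact Groth.Agent.S0451.result k.left O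

end Groth.Agent.SpRelDim
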